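import Cfsg.Agent.H171.RV.FactsA
import Cfsg.Agent.H241.NHMonF
import Cfsg.Agent.MonsterP.Equiv

/-!
# S3849, P11: the Monster, no `D_{2,p}`, `p = 19, 29, 31, 41, 47, 59, 71` (helper573)
-/

set_option autoImplicit false
set_option maxRecDepth 100000

namespace Cfsg.Agent.H573.RM.Mon

open Subgroup Cfsg Cfsg.Agent.H171.RV.TwoP
open Cfsg.Agent.H241.Mon (Gam chart card_cz card_G)
open Cfsg.Agent.MonsterX.InstData Cfsg.Agent.MonsterX.MainPack

universe u

theorem exists_equiv {S : Type u} [Group S] (h : Spor.IsoM S) : Nonempty (S ≃* Gam) := by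
  obtain ⟨e⟩ := h
  obtain ⟨f⟩ := Cfsg.Agent.MonsterP.Equiv.equiv
  exact ⟨e.trans f⟩

theorem card_m {S : Type u} [Group S] (h : Spor.IsoM S) :
    Nat.card S = 808017424794512875886459904961710757005754368000000000 := by
  obtain ⟨e⟩ := exists_equiv h
  rw [Nat.card_congr e.toEquiv, card_G]

/-- the unique central involution of a Sylow 2-subgroup -/
theorem zt_m {S : Type u} [Group S] (h : Spor.IsoM S) : ZT S (2 ^ 25 * 4157776806543360000) := by
  obtain ⟨e⟩ := exists_equiv h
  exact ZT.congr e.symm (zt_of_large chart.large (dvd_of_eq card_cz))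

/-- the numerical condition -/
def chk (p a : ℕ) : Bool :=
  decide (p < 128) && (decide (5 ≤ p) && (!decide (2 ^ a ∣ p - 1) &&
    (List.range 7).all fun j => !decide (2 ^ j ∣ p - 1) || (List.range (2 ^ j + 1)).all fun m =>
      (!decide (m + j ≤ a) || (List.range m).all fun i => decide (2 ^ m % p ≠ 2 ^ i % p))))

/-- **No `D_{2,p}`**, from the unique central involution -/
theorem no2_of_zt' {S : Type u} [Group S] [Finite S] {M : ℕ} (hZ : ZT S M) {p a b : ℕ} (hp : p.Prime)
    (hS : Nat.card S = 2 ^ a * p * b) (hc : chk p a = true) (h2b : ¬ 2 ∣ b) (hpb : ¬ p ∣ b) (hpM : ¬ p ∣ M) :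
    ¬ H571.DExt.Dom ({2, p} : Set ℕ) S := by
  rintro ⟨H, hH, -⟩
  unfold chk at hc
  rw [Bool.and_eq_true, Bool.and_eq_true, Bool.and_eq_true, decide_eq_true_eq, decide_eq_true_eq,
    Bool.not_eq_true', decide_eq_false_iff_not, List.all_eq_true] at hc
  obtain ⟨h1, h2, h3, h4⟩ := hc
  refine no_hall hZ hp (by omega) hS h2b hpb hpM h3 (fun j m i hj hm hi hma => ?_) H hH
  have hj5 : j < 7 := by
    by_contra hcon
    have h5 : 2 ^ 7 ∣ p - 1 := (pow_dvd_pow 2 (by omega)).trans hj
    have h6 := Nat.le_of_dvd (by omega) h5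
    omega
  have h5 := h4 j (List.mem_range.mpr hj5)
  rw [Bool.or_eq_true, Bool.not_eq_true', decide_eq_false_iff_not, List.all_eq_true] at h5
  have h6 := h5.resolve_left (fun h => h hj) m (List.mem_range.mpr (by omega))
  rw [Bool.or_eq_true, Bool.not_eq_true', decide_eq_false_iff_not, List.all_eq_true] at h6
  have h7 := (h6.resolve_left (fun h => h hma)) i (List.mem_range.mpr hi)
  rwa [decide_eq_true_eq] at h7

theorem no2_m {S : Type u} [Group S] [Finite S] (h : Spor.IsoM S) {p : ℕ} (hp : p ∈ [19, 29, 31, 41, 47, 59, 71]) :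
    ¬ H571.DExt.Dom ({2, p} : Set ℕ) S := by
  simp only [List.mem_cons, List.not_mem_nil, or_false] at hp
  rcases hp with rfl | rfl | rfl | rfl | rfl | rfl | rfl
  · exact no2_of_zt' (a := 46) (b := 808017424794512875886459904961710757005754368000000000 / (2 ^ 46 * 19))
      (zt_m h) (by norm_num) ((card_m h).trans (by norm_num)) (by decide +kernel) (by norm_num) (by norm_num) (by norm_num)
  · exact no2_of_zt' (a := 46) (b := 808017424794512875886459904961710757005754368000000000 / (2 ^ 46 * 29))
      (zt_m h) (by norm_num) ((card_m h).trans (by norm_num)) (by decide +kernel) (by norm_num) (by norm_num) (by norm_num)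
  · exact no2_of_zt' (a := 46) (b := 808017424794512875886459904961710757005754368000000000 / (2 ^ 46 * 31))
      (zt_m h) (by norm_num) ((card_m h).trans (by norm_num)) (by decide +kernel) (by norm_num) (by norm_num) (by norm_num)
  · exact no2_of_zt' (a := 46) (b := 808017424794512875886459904961710757005754368000000000 / (2 ^ 46 * 41))
      (zt_m h) (by norm_num) ((card_m h).trans (by norm_num)) (by decide +kernel) (by norm_num) (by norm_num) (by norm_num)
  · exact no2_of_zt' (a := 46) (b := 808017424794512875886459904961710757005754368000000000 / (2 ^ 46 * 47))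
      (zt_m h) (by norm_num) ((card_m h).trans (by norm_num)) (by decide +kernel) (by norm_num) (by norm_num) (by norm_num)
  · exact no2_of_zt' (a := 46) (b := 808017424794512875886459904961710757005754368000000000 / (2 ^ 46 * 59))
      (zt_m h) (by norm_num) ((card_m h).trans (by norm_num)) (by decide +kernel) (by norm_num) (by norm_num) (by norm_num)
  · exact no2_of_zt' (a := 46) (b := 808017424794512875886459904961710757005754368000000000 / (2 ^ 46 * 71))
      (zt_m h) (by norm_num) ((card_m h).trans (by norm_num)) (by decide +kernel) (by norm_num) (by norm_num) (by norm_num)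

end Cfsg.Agent.H573.RM.Mon
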