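import Cfsg.Agent.H573.RM.MonTwo
import Cfsg.Agent.H464.RM.Tools
import Cfsg.Agent.H573.Hall.MThree
import Cfsg.Agent.H573.Hall.MFive
import Cfsg.Agent.H609.Inv.MThirC

/-!
# S3849, P11: the Monster, `(3,5)`, `(3,7)`, `(5,7)`, `(5,11)`, `(5,13)`, `(3,13)` (helper573)
-/

set_option autoImplicit false
set_option maxRecDepth 100000

namespace Cfsg.Agent.H573.RM.Mon

open Subgroup Cfsg Cfsg.Agent.H464.RM
open Cfsg.Agent.H171.Odd (Inv1)
open Cfsg.Agent.H241.Mon (Gam)

universe u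

/-- a weight list -/
def wt (l : List ℕ) (k : ℕ) : ℕ := l.getD k 0

/-- the numerical condition -/
def chkGL (s t a b : ℕ) (l : List ℕ) : Bool :=
  ((List.range a).all fun k => !decide (t ^ (wt l (k + 1) + 1) ∣ s ^ (k + 1) - 1)) &&
    decide (∑ k ∈ Finset.range a, wt l (k + 1) < b)

theorem no_gl' {S : Type u} [Group S] [Finite S] {s t a b m : ℕ} (hs : s.Prime) (ht : t.Prime) (hst : s ≠ t)
    (hS : Nat.card S = s ^ a * t ^ b * m) (h2 : ¬ s ∣ m) (hm : ¬ t ∣ m) (hI : Inv1 s t S) (l : List ℕ)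
    (hc : chkGL s t a b l = true) : ¬ H571.DExt.Dom ({s, t} : Set ℕ) S := by
  unfold chkGL at hc
  rw [Bool.and_eq_true, List.all_eq_true, decide_eq_true_eq] at hc
  refine nd_of (no_gl hs ht hst hS h2 hm hI (wt l) (fun k hk hka => ?_) hc.2)
  have h1 := hc.1 (k - 1) (List.mem_range.mpr (by omega))
  rw [Bool.not_eq_true', decide_eq_false_iff_not, show k - 1 + 1 = k by omega] at h1
  exact h1

theorem no_3_5_m {S : Type u} [Group S] [Finite S] (h : Spor.IsoM S) : ¬ H571.DExt.Dom ({3, 5} : Set ℕ) S :=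
  no_gl' (a := 20) (b := 9) (m := 808017424794512875886459904961710757005754368000000000 / (3 ^ 20 * 5 ^ 9))
    (by norm_num) (by norm_num) (by norm_num) ((card_m h).trans (by norm_num)) (by norm_num) (by norm_num)
    (Hall.MThr.inv_m h (by simp)) [0, 0, 0, 0, 1, 0, 0, 0, 1, 0, 0, 0, 1, 0, 0, 0, 1, 0, 0, 0, 2] (by decide +kernel)

theorem no_3_7_m {S : Type u} [Group S] [Finite S] (h : Spor.IsoM S) : ¬ H571.DExt.Dom ({3, 7} : Set ℕ) S :=
  no_gl' (a := 20) (b := 6) (m := 808017424794512875886459904961710757005754368000000000 / (3 ^ 20 * 7 ^ 6))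
    (by norm_num) (by norm_num) (by norm_num) ((card_m h).trans (by norm_num)) (by norm_num) (by norm_num)
    (Hall.MThr.inv_m h (by simp)) [0, 0, 0, 0, 0, 0, 1, 0, 0, 0, 0, 0, 1, 0, 0, 0, 0, 0, 1] (by decide +kernel)

theorem no_5_7_m {S : Type u} [Group S] [Finite S] (h : Spor.IsoM S) : ¬ H571.DExt.Dom ({5, 7} : Set ℕ) S :=
  no_gl' (a := 9) (b := 6) (m := 808017424794512875886459904961710757005754368000000000 / (5 ^ 9 * 7 ^ 6))
    (by norm_num) (by norm_num) (by norm_num) ((card_m h).trans (by norm_num)) (by norm_num) (by norm_num)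
    (Hall.MFiv.inv_m h (by simp)) [0, 0, 0, 0, 0, 0, 1] (by decide +kernel)

theorem no_5_11_m {S : Type u} [Group S] [Finite S] (h : Spor.IsoM S) : ¬ H571.DExt.Dom ({5, 11} : Set ℕ) S :=
  no_gl' (a := 9) (b := 2) (m := 808017424794512875886459904961710757005754368000000000 / (5 ^ 9 * 11 ^ 2))
    (by norm_num) (by norm_num) (by norm_num) ((card_m h).trans (by norm_num)) (by norm_num) (by norm_num)
    (Hall.MFiv.inv_m h (by simp)) [0, 0, 0, 0, 0, 1] (by decide +kernel)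

theorem no_5_13_m {S : Type u} [Group S] [Finite S] (h : Spor.IsoM S) : ¬ H571.DExt.Dom ({5, 13} : Set ℕ) S :=
  no_gl' (a := 9) (b := 3) (m := 808017424794512875886459904961710757005754368000000000 / (5 ^ 9 * 13 ^ 3))
    (by norm_num) (by norm_num) (by norm_num) ((card_m h).trans (by norm_num)) (by norm_num) (by norm_num)
    (Hall.MFiv.inv_m h (by simp)) [0, 0, 0, 0, 1, 0, 0, 0, 1] (by decide +kernel)

/-- the Sylow 13-subgroup is not abelian -/
theorem exists_13 {S : Type u} [Group S] [Finite S] (h : Spor.IsoM S) :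
    ∃ E : Subgroup S, Nat.card E = 13 ^ 3 ∧ ∃ x ∈ E, ∃ y ∈ E, x * y ≠ y * x := by
  obtain ⟨e⟩ := exists_equiv h
  have hfin := MFive.Row.finite_model
  obtain ⟨x, z, t, Q, hD⟩ := Cfsg.Agent.H131.T5M13.model_D
  obtain ⟨R, W, hr⟩ := Cfsg.Agent.H609.Inv.Thirteen.exists_RW hD
  by_cases hab : ∀ a ∈ R, ∀ b ∈ R, a * b = b * a
  · exact (Cfsg.Agent.H609.Inv.Thirteen.Ab.false hD ⟨hr, hab⟩).elim
  · push Not at hab
    obtain ⟨a, ha, b, hb, hne⟩ := hab
    refine ⟨R.map e.symm.toMonoidHom, ?_, e.symm a, ⟨a, ha, rfl⟩, e.symm b, ⟨b, hb, rfl⟩, fun h1 => hne ?_⟩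
    · rw [card_map_of_injective e.symm.injective, hr.card]
    · rw [← map_mul, ← map_mul] at h1
      exact e.symm.injective h1

/-- the numerical condition -/
def chkEx (s t a r : ℕ) : Bool := (List.range a).all fun k => !decide (t ^ r ∣ s ^ (k + 1) - 1)

theorem of_chkEx {s t a r : ℕ} (hc : chkEx s t a r = true) (k : ℕ) (hk : 1 ≤ k) (hka : k ≤ a) : ¬ t ^ r ∣ s ^ k - 1 := by
  unfold chkEx at hc
  rw [List.all_eq_true] at hc
  have h1 := hc (k - 1) (List.mem_range.mpr (by omega))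
  rw [Bool.not_eq_true', decide_eq_false_iff_not, show k - 1 + 1 = k by omega] at h1
  exact h1

theorem no_3_13_m {S : Type u} [Group S] [Finite S] (h : Spor.IsoM S) : ¬ H571.DExt.Dom ({3, 13} : Set ℕ) S := by
  obtain ⟨E, hE, hna⟩ := exists_13 h
  exact nd_of (no_extra_three (a := 20) (b := 3) (m := 808017424794512875886459904961710757005754368000000000 / (3 ^ 20 * 13 ^ 3))
    (by norm_num) (by norm_num) (by norm_num) ((card_m h).trans (by norm_num)) (by norm_num) (by norm_num)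
    (Hall.MThr.inv_m h (by simp)) hE hna (of_chkEx (by decide +kernel)))

end Cfsg.Agent.H573.RM.Mon
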