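import Cfsg.Agent.H555.RM.Tools
import Cfsg.Agent.H171.RV.FactsA

/-!
# `Inv1 2 t` from a large extraspecial subgroup (helper573)

`inv1_of_large` : `Large Q z`, `2 ^ a ∣ |G|`, `t ^ (b + 1) ∤ |G|`, `2 ^ a ∤ (t - 1) ... (t ^ b - 1)`: no nontrivial `t`-subgroup of `G`
is normalised by a Sylow 2-subgroup.
-/

set_option autoImplicit false

namespace Cfsg.Agent.H573.RM

open Subgroup Cfsg Cfsg.Agent.Co2Type.Quad
open Cfsg.Agent.H171.Odd (Inv1)
open scoped Pointwise

universe u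

variable {G : Type u} [Group G]

/-- the subgroup `Q` is a 2-group -/
theorem pgroup_of_large {Q : Subgroup G} {z : G} (h : Large Q z) : IsPGroup 2 Q := by
  intro x
  refine ⟨2, Subtype.ext ?_⟩
  show (x : G) ^ (2 ^ 2) = 1
  have e : (x : G) ^ (2 ^ 2) = ((x : G) * x) * ((x : G) * x) := by
    simp only [show (2 : ℕ) ^ 2 = 4 from rfl, pow_succ, pow_zero, one_mul, mul_assoc]
  rcases h.sq x x.2 with h1 | h1
  · rw [e, h1, one_mul]
  · rw [e, h1, h.z_sq]

/-- the case of a Sylow 2-subgroup containing `Q` -/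
theorem inv_large_aux [Finite G] {Q : Subgroup G} {z : G} (h : Large Q z) {t a b : ℕ} (ht : t.Prime) (ht2 : t ≠ 2)
    (ha : 2 ^ a ∣ Nat.card G) (hb : ¬ t ^ (b + 1) ∣ Nat.card G)
    (hN : ¬ 2 ^ a ∣ ∏ k ∈ Finset.range b, (t ^ (k + 1) - 1)) {P R : Subgroup G} (hP : IsPGroup 2 P) (hPi : ¬ 2 ∣ P.index)
    (hQP : Q ≤ P) (hR : IsPGroup t R) (hPR : P ≤ normalizer (R : Set G)) : R = ⊥ := by
  have h2 : Fact (Nat.Prime 2) := ⟨Nat.prime_two⟩
  have hft : Fact t.Prime := ⟨ht⟩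
  obtain ⟨j, hj⟩ := hR.exists_card_eq
  have hjb : j ≤ b := by
    by_contra hlt
    exact hb ((pow_dvd_pow t (by omega)).trans (hj ▸ card_subgroup_dvd_card R))
  have haP : 2 ^ a ∣ Nat.card P := by
    have h3 : Nat.card P * P.index = Nat.card G := P.card_mul_index
    refine (Nat.Coprime.pow_left a ?_).dvd_of_dvd_mul_right (h3 ▸ ha)
    exact (Nat.Prime.coprime_iff_not_dvd Nat.prime_two).2 hPi
  -- the kernel is not trivial
  have hker : P ⊓ centralizer (R : Set G) ≠ ⊥ := by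
    intro hbot
    apply hN
    obtain ⟨i, hi⟩ := (hR.to_le (inf_le_left : R ⊓ centralizer (P : Set G) ≤ R)).exists_card_eq
    have h3 := H555.RM.gl_dvd ht Nat.prime_two (Ne.symm ht2) hj j P i hP hPR hi (by omega)
    have h4 : (centralizer (R : Set G)).relIndex P = Nat.card P := by
      rw [← inf_relIndex_right, inf_comm, hbot, relIndex_bot_left]
    rw [h4] at h3
    refine haP.trans (h3.trans ?_)
    exact Finset.prod_dvd_prod_of_subset _ _ _ (Finset.range_subset_range.2 hjb)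
  -- `z` is in the kernel
  have hzP : z ∈ P := hQP h.z_mem
  have hzR : ∀ r ∈ R, r * z = z * r := by
    set K : Subgroup P := (P ⊓ centralizer (R : Set G)).subgroupOf P with hK
    have hKn : K.Normal := by
      refine ⟨fun x hx g => ?_⟩
      rw [mem_subgroupOf, mem_inf] at hx ⊢
      refine ⟨(g * x * g⁻¹).2, mem_centralizer_iff.2 fun r hr => ?_⟩
      have h5 : (g : G)⁻¹ * r * g ∈ R := by
        have := (mem_normalizer_iff.1 (inv_mem (hPR g.2)) r).1 hr
        rwa [inv_inv] at this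
      have h6 := mem_centralizer_iff.1 hx.2 _ h5
      show r * ((g : G) * x * (g : G)⁻¹) = ((g : G) * x * (g : G)⁻¹) * r
      calc r * ((g : G) * x * (g : G)⁻¹) = g * (((g : G)⁻¹ * r * g) * x) * (g : G)⁻¹ := by group
        _ = g * (x * ((g : G)⁻¹ * r * g)) * (g : G)⁻¹ := by rw [h6]
        _ = _ := by group
    have hK1 : K ≠ ⊥ := by
      intro h5
      apply hker
      rw [hK, subgroupOf_eq_bot, disjoint_iff, inf_assoc, inf_comm (centralizer (R : Set G)), ← inf_assoc, inf_idem] at h5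
      exact h5
    obtain ⟨⟨c, hcP⟩, hcK, hcC, hord⟩ := Transfer.PGroupNormal.exists_mem_inf_center_orderOf hP K hK1
    rw [Subgroup.orderOf_mk] at hord
    have hcc : ∀ x ∈ P, c * x = x * c := fun x hx => (congrArg Subtype.val (mem_center_iff.1 hcC ⟨x, hx⟩)).symm
    have hcQ : c ∈ Q := h.self c (hcc z hzP) fun x hx => hcc x (hQP hx)
    have hcz : c = z := by
      rcases h.cent c hcQ fun x hx => hcc x (hQP hx) with h5 | h5
      · rw [h5, orderOf_one] at hord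
        omega
      · exact h5
    rw [mem_subgroupOf, mem_inf] at hcK
    intro r hr
    rw [← hcz]
    exact mem_centralizer_iff.1 hcK.2 r hr
  -- `R` centralises `Q`
  rw [eq_bot_iff]
  intro r hr
  rw [mem_bot]
  have hrQ : r ∈ Q := by
    refine h.self r (hzR r hr) fun x hx => ?_
    have h3 : r * x * r⁻¹ ∈ Q := h.conj_mem r (hzR r hr) x hx
    have h4 : r * x * r⁻¹ * x⁻¹ ∈ Q := mul_mem h3 (inv_mem hx)
    have h5 : x * r⁻¹ * x⁻¹ ∈ R := (mem_normalizer_iff.1 (hPR (hQP hx)) r⁻¹).1 (inv_mem hr)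
    have h6 : r * x * r⁻¹ * x⁻¹ ∈ R := by
      have := mul_mem hr h5
      rwa [show r * (x * r⁻¹ * x⁻¹) = r * x * r⁻¹ * x⁻¹ by group] at this
    have h7 : r * x * r⁻¹ * x⁻¹ = 1 := by
      obtain ⟨k, hk⟩ := pgroup_of_large h ⟨_, h4⟩
      obtain ⟨l, hl⟩ := hR ⟨_, h6⟩
      have hk : (r * x * r⁻¹ * x⁻¹) ^ 2 ^ k = 1 := congrArg Subtype.val hk
      have hl : (r * x * r⁻¹ * x⁻¹) ^ t ^ l = 1 := congrArg Subtype.val hl
      have h8 : Nat.Coprime (2 ^ k) (t ^ l) := Nat.Coprime.pow _ _ ((Nat.coprime_primes Nat.prime_two ht).2 (Ne.symm ht2))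
      have h9 := Nat.dvd_gcd (orderOf_dvd_of_pow_eq_one hk) (orderOf_dvd_of_pow_eq_one hl)
      rw [h8, Nat.dvd_one, orderOf_eq_one_iff] at h9
      exact h9
    calc r * x = (r * x * r⁻¹ * x⁻¹) * (x * r) := by group
      _ = x * r := by rw [h7, one_mul]
  obtain ⟨k, hk⟩ := pgroup_of_large h ⟨r, hrQ⟩
  obtain ⟨l, hl⟩ := hR ⟨r, hr⟩
  have hk : r ^ 2 ^ k = 1 := congrArg Subtype.val hk
  have hl : r ^ t ^ l = 1 := congrArg Subtype.val hl
  have h8 : Nat.Coprime (2 ^ k) (t ^ l) := Nat.Coprime.pow _ _ ((Nat.coprime_primes Nat.prime_two ht).2 (Ne.symm ht2))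
  have h9 := Nat.dvd_gcd (orderOf_dvd_of_pow_eq_one hk) (orderOf_dvd_of_pow_eq_one hl)
  rwa [h8, Nat.dvd_one, orderOf_eq_one_iff] at h9

/-- **`Inv1 2 t`** -/
theorem inv1_of_large [Finite G] {Q : Subgroup G} {z : G} (h : Large Q z) {t a b : ℕ} (ht : t.Prime) (ht2 : t ≠ 2)
    (ha : 2 ^ a ∣ Nat.card G) (hb : ¬ t ^ (b + 1) ∣ Nat.card G)
    (hN : ¬ 2 ^ a ∣ ∏ k ∈ Finset.range b, (t ^ (k + 1) - 1)) : Inv1 2 t G := by
  have h2 : Fact (Nat.Prime 2) := ⟨Nat.prime_two⟩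
  intro P hP hPi R hR hPR
  obtain ⟨T, hT⟩ := (pgroup_of_large h).exists_le_sylow
  obtain ⟨g, hg⟩ := MulAction.exists_smul_eq G (hP.toSylow hPi) T
  have h3 : P.map (MulAut.conj g).toMonoidHom = (T : Subgroup G) := by
    have := congrArg (fun X : Sylow 2 G => (X : Subgroup G)) hg
    rw [← this]
    rfl
  have h4 := inv_large_aux h ht ht2 ha hb hN (P := (T : Subgroup G)) (R := R.map (MulAut.conj g).toMonoidHom)
    T.isPGroup' T.not_dvd_index hT (hR.map _) (by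
      rw [← h3]
      rintro _ ⟨x, hx, rfl⟩
      apply mem_normalizer_fintype
      rintro _ ⟨y, hy, rfl⟩
      refine ⟨x * y * x⁻¹, (mem_normalizer_iff.1 (hPR hx) y).1 hy, ?_⟩
      rw [map_mul, map_mul, map_inv])
  rwa [map_eq_bot_iff_of_injective _ (MulAut.conj g).injective] at h4

end Cfsg.Agent.H573.RM
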