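import Cfsg.Agent.H573.RM.MonTwo
import Cfsg.Agent.H573.RM.InvLarge
import Cfsg.Agent.H841.RM.Five
import Cfsg.Agent.H536.T5.HNRow
import Cfsg.Agent.H935.Meet.BabyFive

/-!
# S3849, P11: the Monster, the pair `(2,5)` (helper573)

`5 ^ (1+4)` in `HN ≤ M` (helper841), `Inv1 2 5` from the large extraspecial subgroup of `C(z)`.
-/

set_option autoImplicit false
set_option maxRecDepth 100000

namespace Cfsg.Agent.H573.RM.Mon

open Subgroup Cfsg Cfsg.Agent.H464.RM
open Cfsg.Agent.H171.Odd (Inv1)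
open Cfsg.Agent.H841.RM.Five
open Cfsg.Agent.H241.Mon (Gam chart card_G)

universe u

theorem inv_2_5_model : Inv1 2 5 Gam := by
  have hfin : Finite Gam := Nat.finite_of_card_ne_zero (by rw [card_G]; norm_num)
  refine inv1_of_large chart.large (a := 46) (b := 9) (by norm_num) (by norm_num) ?_ ?_ ?_
  · rw [card_G]; norm_num
  · rw [card_G]; norm_num
  · decide +kernel

/-- `5 ^ (1+4)` in the Monster -/
theorem exists_x5 : ∃ z n1 n2 n3 n4 : Gam, X5 z n1 n2 n3 n4 := by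
  obtain ⟨n1, n2, n3, n4, v, u, D⟩ := Cfsg.Agent.H536.T5.dat
  have X0 : X5 _ n1 n2 n3 n4 := ⟨D.z5, D.z1, D.p1, D.p2, D.p3, D.p4, D.zn1, D.zn2, D.zn3, D.zn4, D.n12, D.n13, D.n14,
    D.n23, D.n24, D.n34⟩
  exact ⟨_, _, _, _, _, X0.map Cfsg.Agent.H935.Meet.BabyFive.Phi Cfsg.Agent.H935.Meet.BabyFive.Phi_injective⟩

/-- the test of the powers -/
def chk5 (s a : ℕ) : Bool := (List.range a).all fun k => !decide (5 ^ 3 ∣ s ^ (k + 1) - 1)

theorem of_chk5 {s a : ℕ} (hc : chk5 s a = true) (k : ℕ) (hk : 1 ≤ k) (hka : k ≤ a) : ¬ 5 ^ 3 ∣ s ^ k - 1 := by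
  unfold chk5 at hc
  rw [List.all_eq_true] at hc
  have h1 := hc (k - 1) (List.mem_range.mpr (by omega))
  rw [Bool.not_eq_true', decide_eq_false_iff_not, show k - 1 + 1 = k by omega] at h1
  exact h1

theorem no2_5_model (K : Subgroup Gam) : ¬ IsPiHall ({2, 5} : Set ℕ) K := by
  have hfin : Finite Gam := Nat.finite_of_card_ne_zero (by rw [card_G]; norm_num)
  obtain ⟨z, n1, n2, n3, n4, X⟩ := exists_x5
  exact no_extra (a := 46) (b := 9) (m := 808017424794512875886459904961710757005754368000000000 / (2 ^ 46 * 5 ^ 9)) (r := 3)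
    Nat.prime_two Nat.prime_five (by norm_num) (card_G.trans (by norm_num)) (by norm_num) (by norm_num) inv_2_5_model
    X.pgroup X5.m0 X.z1 X.comm_z (fun D hD hz => X.spec hD hz) (of_chk5 (by decide +kernel)) K

/-- **The Monster, no `D_{2,5}`.** -/
theorem no2_m_5 {S : Type u} [Group S] [Finite S] (h : Spor.IsoM S) : ¬ H571.DExt.Dom ({2, 5} : Set ℕ) S := by
  obtain ⟨e⟩ := exists_equiv h
  exact fun h1 => nd_of no2_5_model (Cfsg.Agent.H555.RV.dom_equiv e h1)

end Cfsg.Agent.H573.RM.Mon
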