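import Cfsg.Agent.H573.RM.SpRow
import Cfsg.Agent.H959.RV.Two

/-!
# S3849, the row of `PSL_2(q)`, `q` odd (helper573, P7)

The centraliser of a non-central quaternion is commutative, so `C(X) ≤ C(A)` for `1 ≠ X ≤ A`, `A` abelian of odd order.
-/

set_option autoImplicit false

namespace Cfsg.Agent.H573.RM

open Quaternion
open Cfsg.Agent.H158.PronQ Cfsg.Agent.H158.PronP Cfsg.Agent.H158.PronM2
open Cfsg.Agent.H571.RM Cfsg.Agent.H571.RV Cfsg.Agent.H988.CPi
open scoped Pointwise

universe u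

variable {F : Type} [Field F] [Finite F]

omit [Finite F] in
/-- **the row for quotients of the norm one group by central 2-subgroups** -/
theorem rowM_U {S : Type u} [Group S] [Finite S] (h2 : (2 : F) ≠ 0) (f : U F →* S) (hf : Function.Surjective f)
    (hk : ∀ x ∈ f.ker, x ^ 2 = 1) (hkc : f.ker ≤ Subgroup.center (U F)) {π : Set ℕ} {H A : Subgroup S}
    (d : HA π 2 H A) : RowM π S := by
  have hodd : Odd (Nat.card A) := by
    rw [← Nat.not_even_iff_odd, even_iff_two_dvd]; exact d.rA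
  have hk2 : IsPGroup 2 f.ker := fun x => ⟨1, Subtype.ext (hk _ x.2)⟩
  refine rowM_of_cent d fun _ X hXA hX => ?_
  obtain ⟨⟨x, hx⟩, hx0⟩ := Subgroup.ne_bot_iff_exists_ne_one.1 hX
  have hx1 : x ≠ 1 := fun h => hx0 (Subtype.ext h)
  obtain ⟨x, rfl⟩ := hf x
  have hAodd : ∀ y : U F, f y ∈ A → (f y) ^ Nat.card A = 1 := by
    intro y hy
    have : (⟨f y, hy⟩ : A) ^ Nat.card A = 1 := pow_card_eq_one'
    exact congrArg Subtype.val this
  -- `x` is not a scalar
  have hns : ¬ ((x : ℍ[F]).imI = 0 ∧ (x : ℍ[F]).imJ = 0 ∧ (x : ℍ[F]).imK = 0) := by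
    rintro ⟨h3, h4, h5⟩
    have h6 := normSq_U' x
    rw [h3, h4, h5] at h6
    have h7 : x ^ 2 = 1 := by
      apply Subtype.ext
      rw [pow_two]
      show (x : ℍ[F]) * x = 1
      apply Quaternion.ext
      · simp [h3, h4, h5]; linear_combination h6
      · simp [h3, h4, h5]
      · simp [h3, h4, h5]
      · simp [h3, h4, h5]
    have h8 : (f x) ^ 2 = 1 := by rw [← map_pow, h7, map_one]
    have h9 := Nat.dvd_gcd (orderOf_dvd_of_pow_eq_one h8) (orderOf_dvd_of_pow_eq_one (hAodd x (hXA hx)))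
    rw [(Nat.coprime_two_left.2 hodd).gcd_eq_one, Nat.dvd_one] at h9
    exact hx1 (orderOf_eq_one_iff.1 h9)
  intro g hg
  obtain ⟨g, rfl⟩ := hf g
  have hgx : g * x = x * g := comm_lift f hk2 hkc (Subgroup.mem_centralizer_iff.1 hg _ hx).symm hodd (hAodd x (hXA hx))
  have hcom : ∀ a ∈ A, f g * a = a * f g := by
    intro a ha
    obtain ⟨a, rfl⟩ := hf a
    have hax : a * x = x * a := comm_lift f hk2 hkc (d.ab _ ha _ (hXA hx)) hodd (hAodd x (hXA hx))
    have h3 : g * a = a * g := by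
      apply Subtype.ext
      exact comm_trans h2 hns (congrArg Subtype.val hgx) (congrArg Subtype.val hax)
    rw [← map_mul, h3, map_mul]
  rw [Subgroup.mem_normalizer_iff]
  intro a
  constructor
  · intro ha
    rw [hcom a ha, mul_inv_cancel_right]; exact ha
  · intro ha
    have h3 := hcom _ ha
    have h4 : f g * a * (f g)⁻¹ = a := by
      have h5 : f g * (f g * a * (f g)⁻¹) = f g * a := by rw [h3]; group
      exact mul_left_cancel h5
    rwa [h4] at ha

/-- **the row of `PSL_2(q)`, `q` odd** -/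
theorem rowM_pslTwo {S : Type u} [Group S] [Finite S] (h2 : (2 : F) ≠ 0)
    (e : S ≃* Matrix.ProjectiveSpecialLinearGroup (Fin 2) F) {π : Set ℕ} {H A : Subgroup S} (d : HA π 2 H A) :
    RowM π S := by
  obtain ⟨e'⟩ := exists_equivSL (F := F) h2
  let f : U F →* S := (e.symm : Matrix.ProjectiveSpecialLinearGroup (Fin 2) F →* S).comp
    ((QuotientGroup.mk' (Subgroup.center (Matrix.SpecialLinearGroup (Fin 2) F))).comp e'.toMonoidHom)
  have hf : Function.Surjective f :=
    e.symm.surjective.comp ((QuotientGroup.mk'_surjective _).comp e'.surjective)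
  have hcen : ∀ x : U F, f x = 1 → e' x ∈ Subgroup.center (Matrix.SpecialLinearGroup (Fin 2) F) := by
    intro x hx
    have h1 : (QuotientGroup.mk' (Subgroup.center (Matrix.SpecialLinearGroup (Fin 2) F))) (e' x) = 1 := by
      apply e.symm.injective
      rw [map_one]
      exact hx
    exact (QuotientGroup.eq_one_iff _).1 h1
  refine rowM_U h2 f hf ?_ ?_ d
  · intro x hx
    obtain ⟨r, hr, hrx⟩ := Matrix.SpecialLinearGroup.mem_center_iff.1 (hcen x hx)
    apply e'.injective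
    rw [map_pow, map_one]
    apply Subtype.ext
    show ((e' x) : Matrix (Fin 2) (Fin 2) F) ^ 2 = 1
    rw [← hrx, ← map_pow, show r ^ 2 = 1 by simpa using hr, map_one]
  · intro x hx
    rw [Subgroup.mem_center_iff]
    intro y
    apply e'.injective
    rw [map_mul, map_mul]
    exact Subgroup.mem_center_iff.1 (hcen x hx) (e' y)

/-- the data `HA` from `FTwo` -/
theorem exists_ha_of_ftwo {S : Type u} [Group S] {π : Set ℕ} (h : Cfsg.Agent.H959.RV.FTwo π S) :
    ∃ H A : Subgroup S, HA π 2 H A := by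
  obtain ⟨H, A, h1, h3, h4, h5, h6, h7⟩ := h
  exact ⟨H, A, Nat.prime_two, h1, h3, h4, h5, h6, h7⟩

/-- the row of `PSp_2k(q)`, `q` odd, from `FTwo` -/
theorem rowM_psp_of_ftwo {S : Type u} [Group S] [Finite S] {p : ℕ} [hpp : Fact p.Prime] (h : Cfsg.IsPSpChar p S)
    {π : Set ℕ} (h2π : 2 ∈ π) (hpπ : p ∉ π) (d : Cfsg.Agent.H959.RV.FTwo π S) : RowM π S := by
  obtain ⟨H, A, hd⟩ := exists_ha_of_ftwo d
  exact rowM_psp h h2π hpπ hd

/-- the row of `PSL_2(q)`, `q` odd, from `FTwo` -/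
theorem rowM_pslTwo_of_ftwo {S : Type u} [Group S] [Finite S] (h2 : (2 : F) ≠ 0)
    (e : S ≃* Matrix.ProjectiveSpecialLinearGroup (Fin 2) F) {π : Set ℕ} (d : Cfsg.Agent.H959.RV.FTwo π S) :
    RowM π S := by
  obtain ⟨H, A, hd⟩ := exists_ha_of_ftwo d
  exact rowM_pslTwo h2 e hd

end Cfsg.Agent.H573.RM
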