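import Cfsg.Agent.H408.Pron.Gen
import Cfsg.Agent.H158.PronB
import Cfsg.Agent.H408.Hall.SpTwo

/-!
# Monomial quaternionic unitary matrices and elements of order four (helper573, S3849 P7)

* `quat_choose` : a commutative set of quaternions invariant under `i`, `j` is centralised by `i`, `j` or `k`;
* `exists_mono'` : an element moving the frame elements of order four to monomial matrices is monomial;
* `exists_sylow_all` : Sylow 2-subgroups of the symplectic group, `q` odd.
-/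

set_option autoImplicit false
set_option linter.unusedSectionVars false

namespace Cfsg.Agent.H573.RM

open Quaternion Matrix Equiv
open Cfsg.Agent.H158.PronQ Cfsg.Agent.H158.PronMat Cfsg.Agent.H158.PronMono
open Cfsg.Agent.H158.PronFrame Cfsg.Agent.H158.PronP
open Cfsg.Agent.H408.Pron.Gen

/-- the symplectic group in quaternionic form -/
abbrev GU (n : Type*) [Fintype n] [DecidableEq n] (F : Type*) [Field F] := Cfsg.Agent.H158.PronMat.GU n F

section Q

variable {F : Type*} [Field F]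

/-- a commutative set of quaternions invariant under conjugation by `i` and `j` -/
theorem quat_choose (h2 : (2 : F) ≠ 0) (s : Set ℍ[F]) (hc : ∀ x ∈ s, ∀ y ∈ s, x * y = y * x)
    (hi : ∀ x ∈ s, qi * x * star qi ∈ s) (hj : ∀ x ∈ s, qj * x * star qj ∈ s) :
    ∃ w ∈ Q8 F, w * w = nu ∧ ∀ x ∈ s, (w : ℍ[F]) * x = x * w := by
  have hI : (uI : U F) * uI = nu := by apply Subtype.ext; show (qi : ℍ[F]) * qi = -1; simp
  have hJ : (uJ : U F) * uJ = nu := by apply Subtype.ext; show (qj : ℍ[F]) * qj = -1; simp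
  have hK : (uK : U F) * uK = nu := by apply Subtype.ext; show (qk : ℍ[F]) * qk = -1; simp
  by_cases hall : ∀ x ∈ s, x.imI = 0 ∧ x.imJ = 0 ∧ x.imK = 0
  · refine ⟨uI, uI_mem, hI, fun x hx => ?_⟩
    obtain ⟨h3, h4, h5⟩ := hall x hx
    rw [coe_uI]
    apply comm_of_cross <;> simp [h3, h4, h5]
  · push Not at hall
    obtain ⟨x, hx, hne⟩ := hall
    have hne' : ¬ (x.imI = 0 ∧ x.imJ = 0 ∧ x.imK = 0) := fun h => hne h.1 h.2.1 h.2.2
    obtain ⟨a1, a2, -⟩ := cross_of_comm h2 (hc x hx _ (hi x hx))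
    obtain ⟨b1, -, b3⟩ := cross_of_comm h2 (hc x hx _ (hj x hx))
    simp at a1 a2 b1 b3
    have c1 : x.imI * x.imJ = 0 := by
      have : (2 : F) * (x.imI * x.imJ) = 0 := by linear_combination -a1
      exact (mul_eq_zero.1 this).resolve_left h2
    have c2 : x.imI * x.imK = 0 := by
      have : (2 : F) * (x.imI * x.imK) = 0 := by linear_combination -a2
      exact (mul_eq_zero.1 this).resolve_left h2
    have c3 : x.imJ * x.imK = 0 := by
      have : (2 : F) * (x.imJ * x.imK) = 0 := by linear_combination -b3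
      exact (mul_eq_zero.1 this).resolve_left h2
    by_cases e1 : x.imI = 0
    · by_cases e2 : x.imJ = 0
      · refine ⟨uK, uK_mem, hK, fun y hy => comm_trans h2 hne' ?_ (hc y hy x hx)⟩
        rw [coe_uK]
        apply comm_of_cross <;> simp [e1, e2]
      · have e3 : x.imK = 0 := (mul_eq_zero.1 c3).resolve_left e2
        refine ⟨uJ, uJ_mem, hJ, fun y hy => comm_trans h2 hne' ?_ (hc y hy x hx)⟩
        rw [coe_uJ]
        apply comm_of_cross <;> simp [e1, e3]
    · have e2 : x.imJ = 0 := (mul_eq_zero.1 c1).resolve_left e1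
      have e3 : x.imK = 0 := (mul_eq_zero.1 c2).resolve_left e1
      refine ⟨uI, uI_mem, hI, fun y hy => comm_trans h2 hne' ?_ (hc y hy x hx)⟩
      rw [coe_uI]
      apply comm_of_cross <;> simp [e2, e3]

end Q

section M

variable {F : Type*} [Field F] {n : Type*} [Fintype n] [DecidableEq n]

theorem mem_SG_top {g : GU n F} {σ : Perm n} (h : Mono g.1 σ) : g ∈ SG (⊤ : Subgroup (U F)) (⊤ : Subgroup (Perm n)) :=
  ⟨σ, Subgroup.mem_top _, h, fun b => by
    obtain ⟨u, hu⟩ := h.entry b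
    exact ⟨u, Subgroup.mem_top _, hu⟩⟩

/-- an element conjugating elements of order four of the coordinate groups to monomial matrices is monomial -/
theorem exists_mono' (h2 : (2 : F) ≠ 0) {w : n → U F} (hw : ∀ b, w b * w b = nu) {g : GU n F}
    (hg : ∀ b, g * Rj b (w b) * g⁻¹ ∈ SG (⊤ : Subgroup (U F)) (⊤ : Subgroup (Perm n))) :
    ∃ σ : Perm n, Mono g.1 σ := by
  have h1 : ∀ b, ∃ j, ∀ a, a ≠ j → g.1 a b = 0 := by
    intro b
    have hx : ip (g.1 *ᵥ e b) (g.1 *ᵥ e b) = 1 := by rw [ip_act, ip_e_e]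
    have hz : R (g.1 *ᵥ e b) hx nu = (g * Rj b (w b) * g⁻¹) * (g * Rj b (w b) * g⁻¹) := by
      rw [← R_conj g (e b) (ip_e_e b) hx nu, ← hw b]
      show g * Rj b (w b * w b) * g⁻¹ = _
      rw [map_mul]; group
    have hy := hg b
    have hzS : R (g.1 *ᵥ e b) hx nu ∈ SG (⊤ : Subgroup (U F)) (⊤ : Subgroup (Perm n)) := by
      rw [hz]; exact mul_mem hy hy
    rcases rf_mem_SG h2 hzS with ⟨j, hj⟩ | ⟨a, c, hac, -, hm, -⟩
    · refine ⟨j, fun a ha => ?_⟩
      have := hj a ha
      rwa [Cfsg.Agent.H158.PronMono.mulVec_e] at this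
    · exfalso
      obtain ⟨τ, -, hτ, -⟩ := hy
      have hm' : Mono (R (g.1 *ᵥ e b) hx nu).1 (τ * τ) := by
        rw [hz]; exact hτ.mul hτ
      exact sq_ne_swap hac (hm'.unique hm)
  choose σ hσ using h1
  have hN : ∀ b c, ip (g.1 *ᵥ e b) (g.1 *ᵥ e c) = star (g.1 (σ b) b) * g.1 (σ b) c := by
    intro b c
    rw [Cfsg.Agent.H158.PronMono.mulVec_e, Cfsg.Agent.H158.PronMono.mulVec_e]
    unfold ip
    refine Finset.sum_eq_single (σ b) (fun a _ ha => ?_) (fun h => absurd (Finset.mem_univ _) h)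
    show star (g.1 a b) * g.1 a c = 0
    rw [hσ b a ha, star_zero, zero_mul]
  have hinj : Function.Injective σ := by
    intro b c hbc
    by_contra hne
    have h3 := hN b b
    rw [ip_act, ip_e_e] at h3
    have h4 := hN b c
    rw [ip_act, ip_e, e, Pi.single_eq_of_ne hne] at h4
    have h5 : normSq (star (g.1 (σ b) b)) ≠ 0 := by
      intro h0
      have h6 := congrArg normSq h3
      rw [map_mul, h0, zero_mul, map_one] at h6
      exact one_ne_zero h6
    have h6 := mul_eq_zero_left h5 h4.symm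
    have h7 := hN c c
    rw [ip_act, ip_e_e, ← hbc, h6, mul_zero] at h7
    exact one_ne_zero h7
  refine ⟨Equiv.ofBijective σ (Finite.injective_iff_bijective.1 hinj), fun a b hab => ?_⟩
  exact hσ b a hab

/-- commuting with a frame reflection -/
theorem zero_of_comm (h2 : (2 : F) ≠ 0) {g : GU n F} {b : n} (h : g * Rj b nu = Rj b nu * g) {a : n} (hab : a ≠ b) :
    g.1 a b = 0 := by
  have h1 := congrArg (fun x : GU n F => x.1 a b) h
  have h3 : (g * Rj b nu).1 a b = - g.1 a b := by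
    have h4 : (g * Rj b nu).1 = g.1 * (Rj b nu : GU n F).1 := rfl
    rw [h4, (Rj_mono b nu).mul_apply, Perm.one_apply, Rj_apply, if_pos rfl, if_pos rfl, coe_nu, mul_neg, mul_one]
  have h4 : (Rj b nu * g).1 a b = g.1 a b := by
    have h5 : (Rj b nu * g).1 = (Rj b nu : GU n F).1 * g.1 := rfl
    rw [h5, Matrix.mul_apply, Finset.sum_eq_single a]
    · rw [Rj_apply, if_pos rfl, if_neg hab, one_mul]
    · intro c _ hc
      rw [Rj_apply, if_neg (fun h => hc h.symm), zero_mul]
    · intro h; exact absurd (Finset.mem_univ _) h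
  have h5 : - g.1 a b = g.1 a b := by rw [← h3, ← h4]; exact h1
  apply two_ne h2
  have h6 : (2 : ℍ[F]) * g.1 a b = g.1 a b + g.1 a b := two_mul _
  rw [h6]
  nth_rewrite 1 [← h5]
  exact neg_add_cancel _

/-- **an element of order four in every coordinate group centralising `A`** -/
theorem exists_order_four (h2 : (2 : F) ≠ 0) {A : Subgroup (GU n F)} (hab : ∀ x ∈ A, ∀ y ∈ A, x * y = y * x)
    (hz : ∀ b, ∀ x ∈ A, x * Rj b nu = Rj b nu * x)
    (hQ : ∀ b, ∀ w ∈ Q8 F, ∀ x ∈ A, Rj b w * x * (Rj b w)⁻¹ ∈ A) (b : n) :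
    ∃ w ∈ Q8 F, w * w = nu ∧ ∀ x ∈ A, Rj b w * x = x * Rj b w := by
  have hm : ∀ x ∈ A, Mono x.1 (1 : Perm n) := fun x hx c d hcd => zero_of_comm h2 (hz d x hx) hcd
  have hent : ∀ x ∈ A, ∀ y ∈ A, (x * y).1 b b = x.1 b b * y.1 b b := by
    intro x hx y hy
    have h1 : (x * y).1 = x.1 * y.1 := rfl
    rw [h1, (hm y hy).mul_apply, Perm.one_apply]
  have hcl : ∀ w ∈ Q8 F, ∀ q ∈ {q : ℍ[F] | ∃ x ∈ A, q = x.1 b b}, (w : ℍ[F]) * q * star (w : ℍ[F]) ∈
      {q : ℍ[F] | ∃ x ∈ A, q = x.1 b b} := by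
    rintro w hw _ ⟨x, hx, rfl⟩
    refine ⟨_, hQ b w hw x hx, ?_⟩
    have h1 : (Rj b w * x * (Rj b w)⁻¹).1 = (Rj b w : GU n F).1 * x.1 * (Rj b w⁻¹ : GU n F).1 := by
      rw [map_inv]; rfl
    rw [h1, (Rj_mono b w⁻¹).mul_apply, Perm.one_apply, (hm x hx).mul_apply, Perm.one_apply, Rj_apply, Rj_apply,
      if_pos rfl, if_pos rfl, if_pos rfl, if_pos rfl, Cfsg.Agent.H158.PronQ.coe_inv]
  obtain ⟨w, hw, hww, hwc⟩ := quat_choose h2 {q : ℍ[F] | ∃ x ∈ A, q = x.1 b b} (by
    rintro _ ⟨x, hx, rfl⟩ _ ⟨y, hy, rfl⟩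
    rw [← hent x hx y hy, ← hent y hy x hx, hab x hx y hy]) (hcl uI uI_mem) (hcl uJ uJ_mem)
  refine ⟨w, hw, hww, fun x hx => ?_⟩
  obtain ⟨u, hu⟩ := (hm x hx).entry b
  have h3 := (hm x hx).conj_Rj b hu w
  have h4 : u * w * u⁻¹ = w := by
    rw [mul_inv_eq_iff_eq_mul]
    apply Subtype.ext
    show (u : ℍ[F]) * w = w * u
    rw [hu, Perm.one_apply]
    exact (hwc _ ⟨x, hx, rfl⟩).symm
  rw [h4, Perm.one_apply, mul_inv_eq_iff_eq_mul] at h3
  exact h3.symm

/-- a non-monomial element -/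
theorem exists_not_mono [Finite F] (h2 : (2 : F) ≠ 0) {i j : n} (hij : i ≠ j) :
    ∃ g : GU n F, ∀ σ : Perm n, ¬ Mono g.1 σ := by
  obtain ⟨a, b, hab⟩ := Cfsg.Agent.H158.PronM2.exists_sq_add_sq (-1 : F)
  set ν : ℍ[F] := mkQ 1 a b 0 with hν
  have hN : normSq ν = 0 := by
    rw [normSq_def', hν]
    simp only [mkQ_re, mkQ_imI, mkQ_imJ, mkQ_imK]
    linear_combination hab
  have hν0 : ν ≠ 0 := by
    intro h
    have := congrArg QuaternionAlgebra.re h
    rw [hν, mkQ_re] at this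
    exact one_ne_zero this
  set x : n → ℍ[F] := fun c => if c = i then 1 else if c = j then ν else 0 with hx
  have hxi : x i = 1 := by rw [hx]; simp
  have hxj : x j = ν := by rw [hx]; simp [hij.symm]
  have hx1 : ip x x = 1 := by
    unfold ip
    rw [Finset.sum_eq_add_of_mem i j (Finset.mem_univ _) (Finset.mem_univ _) hij]
    · rw [hxi, hxj, star_one, one_mul, star_mul_self, hN]
      simp
    · intro c _ hc
      have : x c = 0 := by rw [hx]; simp [hc.1, hc.2]
      rw [this, mul_zero]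
  refine ⟨R x hx1 nu, fun σ hσ => ?_⟩
  have h3 : (R x hx1 nu).1 j j = 1 := by
    rw [rf_apply, Matrix.one_apply_eq, hxj, self_mul_star, hN]
    simp
  have h4 : j = σ j := by
    by_contra hne
    have := hσ j j hne
    rw [h3] at this
    exact one_ne_zero this
  have h5 := hσ i j (by rw [← h4]; exact hij)
  rw [rf_apply, Matrix.one_apply_ne hij, zero_sub, neg_eq_zero, hxi, one_mul, hxj] at h5
  have h6 := two_ne h2 h5
  exact hν0 (star_eq_zero.1 h6)

/-- Sylow 2-subgroups of the symplectic group, `q` odd -/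
theorem exists_sylow_all [Finite F] (h2 : (2 : F) ≠ 0) :
    ∃ (W : Subgroup (U F)) (T : Subgroup (Perm n)) (S : Sylow 2 (GU n F)), Q8 F ≤ W ∧
      (S : Subgroup (GU n F)) = SG W T := by
  have : Fact (Nat.Prime 2) := ⟨Nat.prime_two⟩
  obtain ⟨T⟩ : Nonempty (Sylow 2 (Perm n)) := inferInstance
  by_cases hs : IsSquare (2 : F)
  · have := Fintype.ofFinite F
    have hu4 : (uI : U F) * uI = nu := by
      apply Subtype.ext; show (qi : ℍ[F]) * qi = -1; exact qi_mul_qi
    obtain ⟨W, hW⟩ := (Q8_isPGroup (F := F)).exists_le_sylow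
    have hself : ∀ u : U F, (∀ w ∈ (W : Subgroup (U F)), u * w * u⁻¹ ∈ (W : Subgroup (U F))) →
        u ∈ (W : Subgroup (U F)) := by
      obtain ⟨e⟩ := Cfsg.Agent.H158.PronM2.exists_equivSL (F := F) h2
      have hodd : Odd (Fintype.card F) := by
        refine Nat.odd_iff.2 (FiniteField.odd_card_of_char_ne_two fun h => h2 ?_)
        have h0 := ringChar.Nat.cast_ringChar (R := F)
        rw [h] at h0
        exact_mod_cast h0
      have h8 : Fintype.card F % 8 = 1 ∨ Fintype.card F % 8 = 7 := by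
        have h3 := FiniteField.isSquare_two_iff.1 hs
        obtain ⟨l, hl⟩ := hodd
        omega
      intro u hu
      have h3 := (S2431.result hodd (W.mapSurjective (f := e.toMonoidHom) e.surjective)).2.1 h8
      have h4 : e u ∈ Subgroup.normalizer ((W.mapSurjective (f := e.toMonoidHom) e.surjective :
          Subgroup (Matrix.SpecialLinearGroup (Fin 2) F)) : Set _) := by
        apply Subgroup.mem_normalizer_fintype
        rintro _ ⟨w, hw, rfl⟩
        refine ⟨u * w * u⁻¹, hu w hw, ?_⟩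
        rw [map_mul, map_mul, map_inv]
        rfl
      rw [h3] at h4
      obtain ⟨w, hw, hwe⟩ := h4
      have h5 : w = u := e.injective hwe
      rw [← h5]; exact hw
    have hnorm := SG_self h2 T ⟨uI, hW uI_mem, hu4⟩ hself
    obtain ⟨S, hS⟩ := exists_sylow_eq (SG (W : Subgroup (U F)) (T : Subgroup (Perm n)))
      (SG_isPGroup W.isPGroup' T.isPGroup') (by
        intro m hm _
        apply hnorm
        exact Subgroup.mem_normalizer_fintype hm)
    exact ⟨W, T, S, hW, hS⟩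
  · obtain ⟨S, hS⟩ := exists_sylow_gen h2 hs T
    exact ⟨Q8 F, T, S, le_rfl, hS⟩

end M

end Cfsg.Agent.H573.RM
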