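import Cfsg.Agent.H573.RM.Quat
import Cfsg.Agent.H571.RM.RowZ
import Cfsg.Agent.H408.Hall.SpTwo
import Cfsg.Agent.LieClassical.SympCenter
import Cfsg.Prelude.Def_LieTypeChar

/-!
# S3849, the row of `PSp_2m(q)`, `q` odd, `m ≥ 2`, `2 ∈ π`, `p ∉ π` (helper573, P7)

`L` is the group of monomial matrices in the quaternionic form: if the elements of order four of the coordinate groups
centralising `A` and their conjugates by `g` lie in a common 2-subgroup, then `g ∈ L`.

* `rowM_GU` : quotients of `GU n F` by central 2-subgroups;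
* `rowM_psp` : the row.
-/

set_option autoImplicit false
set_option linter.unusedSectionVars false

namespace Cfsg.Agent.H573.RM

open Quaternion Matrix Equiv
open Cfsg.Agent.H158.PronQ Cfsg.Agent.H158.PronMat Cfsg.Agent.H158.PronMono
open Cfsg.Agent.H158.PronFrame Cfsg.Agent.H158.PronSp
open Cfsg.Agent.H571.RM Cfsg.Agent.H571.RV Cfsg.Agent.H988.CPi
open scoped Pointwise

universe u

section Abs

variable {G : Type*} {S : Type*} [Group G] [Group S]

/-- commuting elements modulo a central 2-subgroup, one of odd order -/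
theorem comm_lift (f : G →* S) (hk : IsPGroup 2 f.ker) (hkc : f.ker ≤ Subgroup.center G) {x a : G}
    (h : f x * f a = f a * f x) {m : ℕ} (hm : Odd m) (ham : (f a) ^ m = 1) : x * a = a * x := by
  set c := x * a * x⁻¹ * a⁻¹ with hc
  have hcker : c ∈ f.ker := by
    rw [MonoidHom.mem_ker, hc, map_mul, map_mul, map_mul, map_inv, map_inv, h, mul_inv_cancel_right, mul_inv_cancel]
  have hcc : ∀ y, y * c = c * y := fun y => Subgroup.mem_center_iff.1 (hkc hcker) y
  have hxa : x * a * x⁻¹ = c * a := by rw [hc]; group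
  have hpow : ∀ k : ℕ, (c * a) ^ k = c ^ k * a ^ k := fun k =>
    (show Commute c a from (hcc a).symm).mul_pow k
  have h1 : x * a ^ m * x⁻¹ = c ^ m * a ^ m := by
    rw [← hpow, ← hxa, conj_pow]
  have h2 : a ^ m ∈ f.ker := by rw [MonoidHom.mem_ker, map_pow, ham]
  have h3 : x * a ^ m = a ^ m * x := Subgroup.mem_center_iff.1 (hkc h2) x
  have h4 : c ^ m = 1 := by
    rw [h3, mul_inv_cancel_right] at h1
    exact (mul_eq_right (a := c ^ m) (b := a ^ m)).1 h1.symm
  obtain ⟨k, hk'⟩ := hk ⟨c, hcker⟩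
  have h5 : c ^ 2 ^ k = 1 := congrArg Subtype.val hk'
  have h6 : c = 1 := by
    have h7 : Nat.Coprime m (2 ^ k) := Nat.Coprime.pow_right k (Nat.coprime_two_right.2 hm)
    have h8 := Nat.dvd_gcd (orderOf_dvd_of_pow_eq_one h4) (orderOf_dvd_of_pow_eq_one h5)
    rw [h7.gcd_eq_one, Nat.dvd_one] at h8
    exact orderOf_eq_one_iff.1 h8
  rw [h6, one_mul, mul_inv_eq_iff_eq_mul] at hxa
  exact hxa

/-- preimages of 2-groups -/
theorem isPGroup_comap (f : G →* S) (hk : IsPGroup 2 f.ker) {Q : Subgroup S} (hQ : IsPGroup 2 Q) :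
    IsPGroup 2 (Q.comap f) := by
  rintro ⟨x, hx⟩
  obtain ⟨k, hk1⟩ := hQ ⟨f x, hx⟩
  have h1 : (f x) ^ 2 ^ k = 1 := congrArg Subtype.val hk1
  obtain ⟨l, hl⟩ := hk ⟨x ^ 2 ^ k, by rw [MonoidHom.mem_ker, map_pow, h1]⟩
  have h2 : (x ^ 2 ^ k) ^ 2 ^ l = 1 := congrArg Subtype.val hl
  refine ⟨k + l, Subtype.ext ?_⟩
  show x ^ 2 ^ (k + l) = 1
  rw [pow_add, pow_mul, h2]

/-- the order of a preimage -/
theorem prime_dvd_comap [Finite G] (f : G →* S) (hk : IsPGroup 2 f.ker) {H : Subgroup S}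
    {p : ℕ} (hp : p.Prime) (hp2 : p ≠ 2) (h : p ∣ Nat.card (H.comap f)) : p ∣ Nat.card H := by
  have := Fact.mk hp
  obtain ⟨x, hx⟩ := exists_prime_orderOf_dvd_card' p h
  have h1 : orderOf (x : G) = p := by rw [← hx]; exact Subgroup.orderOf_coe x
  have h3 : f x ≠ 1 := by
    intro h4
    obtain ⟨k, hk1⟩ := hk ⟨x, by rw [MonoidHom.mem_ker, h4]⟩
    have h5 : (x : G) ^ 2 ^ k = 1 := congrArg Subtype.val hk1
    have h6 := orderOf_dvd_of_pow_eq_one h5
    rw [h1] at h6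
    exact hp2 ((Nat.prime_dvd_prime_iff_eq hp Nat.prime_two).1 (hp.dvd_of_dvd_pow h6))
  have h4 : (f x) ^ p = 1 := by rw [← map_pow, ← h1, pow_orderOf_eq_one, map_one]
  have h5 : orderOf (f x) = p := orderOf_eq_prime h4 h3
  have h6 : orderOf (⟨f x, x.2⟩ : H) = p := by rw [← h5]; exact (Subgroup.orderOf_mk _ _)
  rw [← h6]
  exact orderOf_dvd_natCard _

/-- conjugating a Sylow subgroup into a subgroup of odd index -/
theorem exists_conj_le {G : Type*} [Group G] [Finite G] (P : Sylow 2 G) {H : Subgroup G} (h : ¬ 2 ∣ H.index) :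
    ∃ c : G, ∀ x ∈ (P : Subgroup G), c * x * c⁻¹ ∈ H := by
  obtain ⟨Q, hQ⟩ := Cfsg.Agent.H158.PronProd.exists_sylow_le' (G := G) (H := H)
    (by rw [← Nat.not_even_iff_odd, even_iff_two_dvd]; exact h)
  obtain ⟨c, hc⟩ := MulAction.exists_smul_eq G P Q
  refine ⟨c, fun x hx => hQ ?_⟩
  rw [← hc]
  exact ⟨x, hx, rfl⟩

end Abs

section GUrow

variable {F : Type} [Field F] [Finite F] {n : Type*} [Fintype n] [DecidableEq n]

/-- the frame elements control `L` -/
theorem ctrl_mono {S : Type*} [Group S] [Finite S] (h2 : (2 : F) ≠ 0) (f : GU n F →* S) (hf : Function.Surjective f)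
    (hk : IsPGroup 2 f.ker) {B : Subgroup S} {w : n → U F} (hw : ∀ b, w b * w b = nu) (hB : ∀ b, f (Rj b (w b)) ∈ B) :
    Ctrl 2 B ((SG (⊤ : Subgroup (U F)) (⊤ : Subgroup (Perm n))).map f) := by
  have : Fact (Nat.Prime 2) := ⟨Nat.prime_two⟩
  have hfin : Finite (GU n F) := inferInstance
  intro g Q hQ hBQ hgQ
  obtain ⟨g, rfl⟩ := hf g
  obtain ⟨W, T, P, -, hP⟩ := exists_sylow_all (F := F) (n := n) h2
  obtain ⟨P', hP'⟩ := (isPGroup_comap f hk hQ).exists_le_sylow
  obtain ⟨c, hc⟩ := MulAction.exists_smul_eq (GU n F) P P'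
  have hmem : ∀ x, f x ∈ Q → c⁻¹ * x * c ∈ SG (⊤ : Subgroup (U F)) (⊤ : Subgroup (Perm n)) := by
    intro x hx
    have h1 : x ∈ (P' : Subgroup (GU n F)) := hP' hx
    rw [← hc] at h1
    have h3 : x ∈ (MulAut.conj c • (P : Subgroup (GU n F))) := h1
    obtain ⟨y, hy, hyx⟩ := h3
    have hyx' : c * y * c⁻¹ = x := hyx
    have h4 : c⁻¹ * x * c = y := by rw [← hyx']; group
    rw [h4]
    have h5 : y ∈ SG W T := by rw [← hP]; exact hy
    exact Cfsg.Agent.H408.Pron.Gen.SG_mono le_top le_top h5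
  obtain ⟨σ, hσ⟩ := exists_mono' h2 hw (g := c⁻¹) (fun b => by
    rw [inv_inv]
    exact hmem _ (hBQ (hB b)))
  obtain ⟨τ, hτ⟩ := exists_mono' h2 hw (g := c⁻¹ * g) (fun b => by
    have h1 : c⁻¹ * g * Rj b (w b) * (c⁻¹ * g)⁻¹ = c⁻¹ * (g * Rj b (w b) * g⁻¹) * c := by group
    rw [h1]
    apply hmem
    rw [map_mul, map_mul, map_inv]
    exact hgQ ⟨_, hB b, rfl⟩)
  refine ⟨g, ?_, rfl⟩
  have h1 : g = (c⁻¹)⁻¹ * (c⁻¹ * g) := by group
  rw [h1]
  exact mul_mem (inv_mem (mem_SG_top hσ)) (mem_SG_top hτ)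

/-- the group of monomial matrices is proper -/
theorem mono_ne_top {S : Type*} [Group S] (h2 : (2 : F) ≠ 0) (f : GU n F →* S) (hkc : f.ker ≤ Subgroup.center (GU n F))
    {i j : n} (hij : i ≠ j) : (SG (⊤ : Subgroup (U F)) (⊤ : Subgroup (Perm n))).map f ≠ ⊤ := by
  intro htop
  obtain ⟨g, hg⟩ := exists_not_mono (F := F) h2 hij
  have h1 : f g ∈ (SG (⊤ : Subgroup (U F)) (⊤ : Subgroup (Perm n))).map f := by rw [htop]; trivial
  obtain ⟨y, hy, hyg⟩ := h1
  have h3 : g * y⁻¹ ∈ f.ker := by rw [MonoidHom.mem_ker, map_mul, map_inv, hyg, mul_inv_cancel]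
  have h4 := hkc h3
  have hI : (uI : U F) * uI = nu := by apply Subtype.ext; show (qi : ℍ[F]) * qi = -1; simp
  obtain ⟨σ, hσ⟩ := exists_mono' h2 (w := fun _ => uI) (fun _ => hI) (g := g * y⁻¹) (fun b => by
    rw [← Subgroup.mem_center_iff.1 h4 (Rj b uI), mul_inv_cancel_right]
    exact mem_SG_top (Rj_mono b uI))
  have h5 : g ∈ SG (⊤ : Subgroup (U F)) (⊤ : Subgroup (Perm n)) := by
    have h6 : g = (g * y⁻¹) * y := by group
    rw [h6]
    exact mul_mem (mem_SG_top hσ) hy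
  obtain ⟨τ, -, hτ, -⟩ := h5
  exact hg τ hτ

/-- **the row, for a Hall subgroup above the wreath product** -/
theorem rowM_aux {S : Type u} [Group S] [Finite S] {p : ℕ} [hpp : Fact p.Prime] [CharP F p] (h2 : (2 : F) ≠ 0)
    (f : GU n F →* S) (hf : Function.Surjective f) (hk : IsPGroup 2 f.ker) (hkc : f.ker ≤ Subgroup.center (GU n F))
    {i j : n} (hij : i ≠ j) {π : Set ℕ} (h2π : 2 ∈ π) (hpπ : p ∉ π) {H A : Subgroup S} (d : HA π 2 H A)
    {W : Subgroup (U F)} {T : Subgroup (Perm n)} (hW : Q8 F ≤ W) (hR : (SG W T).map f ≤ H) : RowM π S := by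
  have : Fact (Nat.Prime 2) := ⟨Nat.prime_two⟩
  have hfin : Finite (GU n F) := inferInstance
  have hp2 : p ≠ 2 := fun h => hpπ (h ▸ h2π)
  have hodd : Odd (Nat.card A) := by
    rw [← Nat.not_even_iff_odd, even_iff_two_dvd]; exact d.rA
  -- the preimage of `A` is commutative
  have hlift : ∀ x a : GU n F, f a ∈ A → f x * f a = f a * f x → x * a = a * x := fun x a ha h =>
    comm_lift f hk hkc h hodd (by
      have : (⟨f a, ha⟩ : A) ^ Nat.card A = 1 := pow_card_eq_one'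
      exact congrArg Subtype.val this)
  have hab : ∀ x ∈ A.comap f, ∀ y ∈ A.comap f, x * y = y * x := fun x hx y hy => hlift x y hy (d.ab _ hx _ hy)
  -- elements of `Q8` normalise `A`
  have hQH : ∀ b, ∀ w ∈ Q8 F, f (Rj b w) ∈ H := fun b w hw => hR ⟨_, Rj_mem T b (hW hw), rfl⟩
  have hQ : ∀ b, ∀ w ∈ Q8 F, ∀ x ∈ A.comap f, Rj b w * x * (Rj b w)⁻¹ ∈ A.comap f := by
    intro b w hw x hx
    rw [Subgroup.mem_comap, map_mul, map_mul, map_inv]
    exact (Subgroup.mem_normalizer_iff.1 (d.nor (hQH b w hw)) _).1 hx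
  -- the frame reflections centralise `A`
  have hpH : ¬ p ∣ Nat.card (H.comap f) := fun hd =>
    hpπ (d.hall.1 p hpp.out (prime_dvd_comap f hk hpp.out hp2 hd))
  have hz : ∀ b, ∀ x ∈ A.comap f, x * Rj b nu = Rj b nu * x := by
    intro b x hx
    obtain ⟨z, hz, hzz⟩ := Cfsg.Agent.H408.Hall.SpTwo.z_mem (p := p) h2 hpH (j := b) (hQH b uI uI_mem)
    have hzz' : (z : GU n F) = Rj b nu := hzz
    have hn : (Cfsg.pCore 2 (H.comap f)).Normal := inferInstance
    have hpg : IsPGroup 2 (Cfsg.pCore 2 (H.comap f)) := Cfsg.Agent.Lib.Cores.pCore_isPGroup 2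
    have hxH : x ∈ H.comap f := d.ale hx
    have h1 : z * ((⟨x, hxH⟩ : H.comap f) * z⁻¹ * (⟨x, hxH⟩ : H.comap f)⁻¹) ∈ Cfsg.pCore 2 (H.comap f) :=
      mul_mem hz (hn.conj_mem _ (inv_mem hz) _)
    obtain ⟨k, hk1⟩ := hpg ⟨_, h1⟩
    have h3 : ((z : GU n F) * (x * (z : GU n F)⁻¹ * x⁻¹)) ^ 2 ^ k = 1 :=
      congrArg Subtype.val (congrArg Subtype.val hk1)
    rw [hzz'] at h3
    have h4 : f (Rj b nu) * (f x * (f (Rj b nu))⁻¹ * (f x)⁻¹) ∈ A := by
      have h5 := (Subgroup.mem_normalizer_iff.1 (d.nor (hzz' ▸ z.2 : f (Rj b nu) ∈ H)) _).1 (show f x ∈ A from hx)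
      have h6 := A.mul_mem h5 (A.inv_mem hx)
      have h7 : f (Rj b nu) * (f x * (f (Rj b nu))⁻¹ * (f x)⁻¹) = f (Rj b nu) * f x * (f (Rj b nu))⁻¹ * (f x)⁻¹ := by
        group
      rw [h7]; exact h6
    have h5 : (f (Rj b nu) * (f x * (f (Rj b nu))⁻¹ * (f x)⁻¹)) ^ 2 ^ k = 1 := by
      have := congrArg f h3
      simpa only [map_pow, map_mul, map_inv, map_one] using this
    have h6 : (f (Rj b nu) * (f x * (f (Rj b nu))⁻¹ * (f x)⁻¹)) ^ Nat.card A = 1 := by
      have : (⟨_, h4⟩ : A) ^ Nat.card A = 1 := pow_card_eq_one'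
      exact congrArg Subtype.val this
    have h7 : f (Rj b nu) * (f x * (f (Rj b nu))⁻¹ * (f x)⁻¹) = 1 := by
      have h8 := Nat.dvd_gcd (orderOf_dvd_of_pow_eq_one h5) (orderOf_dvd_of_pow_eq_one h6)
      rw [(Nat.Coprime.pow_left k (Nat.coprime_two_left.2 hodd)).gcd_eq_one, Nat.dvd_one] at h8
      exact orderOf_eq_one_iff.1 h8
    refine (hlift (Rj b nu) x hx ?_).symm
    have h8 : f (Rj b nu) * f x = f (Rj b nu) * (f x * (f (Rj b nu))⁻¹ * (f x)⁻¹) * (f x * f (Rj b nu)) := by group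
    rw [h8, h7, one_mul]
  -- elements of order four
  choose w hwQ hww hwc using exists_order_four h2 hab hz hQ
  obtain ⟨R, hR2, hRH, hRA, hRmem⟩ := d.exists_core
  have hwR : ∀ b, f (Rj b (w b)) ∈ R := by
    intro b
    refine hRmem _ (hQH b _ (hwQ b)) ⟨2, ?_⟩ ?_
    · rw [← map_pow, ← map_pow, show 2 ^ 2 = 4 from rfl, Q8_pow (hwQ b), map_one, map_one]
    · intro a ha
      obtain ⟨a, rfl⟩ := hf a
      rw [← map_mul, hwc b a ha, map_mul]
  have hRn : H ≤ Subgroup.normalizer (R : Set S) := by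
    have key : ∀ h ∈ H, ∀ y ∈ R, h * y * h⁻¹ ∈ R := by
      intro h hh y hy
      refine hRmem _ (H.mul_mem (H.mul_mem hh (hRH hy)) (H.inv_mem hh)) ?_ ?_
      · obtain ⟨k, hk1⟩ := hR2 ⟨y, hy⟩
        refine ⟨k, ?_⟩
        have h3 : y ^ 2 ^ k = 1 := congrArg Subtype.val hk1
        rw [conj_pow, h3, mul_one, mul_inv_cancel]
      · intro a ha
        have h3 : h⁻¹ * a * h ∈ A := by
          have h4 := (Subgroup.mem_normalizer_iff.1 (d.nor (H.inv_mem hh)) a).1 ha
          rwa [inv_inv] at h4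
        have h4 := hRA y hy _ h3
        calc h * y * h⁻¹ * a = h * (y * (h⁻¹ * a * h)) * h⁻¹ := by group
          _ = h * ((h⁻¹ * a * h) * y) * h⁻¹ := by rw [h4]
          _ = a * (h * y * h⁻¹) := by group
    intro h hh
    rw [Subgroup.mem_normalizer_iff]
    intro y
    refine ⟨fun hy => key h hh y hy, fun hy => ?_⟩
    have h3 := key _ (H.inv_mem hh) _ hy
    have h4 : h⁻¹ * (h * y * h⁻¹) * h⁻¹⁻¹ = y := by group
    rwa [h4] at h3
  exact rowM_of_L d h2π hR2 hRH hRn hRA (ctrl_mono h2 f hf hk hww hwR) (mono_ne_top h2 f hkc hij)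

/-- **the row for quotients of `GU n F` by central 2-subgroups** -/
theorem rowM_GU {S : Type u} [Group S] [Finite S] {p : ℕ} [hpp : Fact p.Prime] [CharP F p] (h2 : (2 : F) ≠ 0)
    (f : GU n F →* S) (hf : Function.Surjective f) (hk : IsPGroup 2 f.ker) (hkc : f.ker ≤ Subgroup.center (GU n F))
    {i j : n} (hij : i ≠ j) {π : Set ℕ} (h2π : 2 ∈ π) (hpπ : p ∉ π) {H A : Subgroup S} (d : HA π 2 H A) :
    RowM π S := by
  have : Fact (Nat.Prime 2) := ⟨Nat.prime_two⟩
  have hfin : Finite (GU n F) := inferInstance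
  obtain ⟨W, T, P, hW, hP⟩ := exists_sylow_all (F := F) (n := n) h2
  -- the preimage of `H` has odd index
  have hidx : ¬ 2 ∣ (H.comap f).index := by
    rw [Subgroup.index_comap_of_surjective _ hf]
    exact fun hd => d.hall.2 2 Nat.prime_two h2π hd
  obtain ⟨c, hc⟩ := exists_conj_le P (H := H.comap f) hidx
  let f' : GU n F →* S := f.comp (MulAut.conj c).toMonoidHom
  have hf' : Function.Surjective f' := hf.comp (MulAut.conj c).surjective
  have hker : ∀ x, x ∈ f'.ker → x ∈ f.ker := by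
    intro x hx
    have h1 : c * x * c⁻¹ ∈ f.ker := hx
    have h3 := Subgroup.mem_center_iff.1 (hkc h1) c
    have h4 : x = c * x * c⁻¹ := by
      have h5 : c * x = c * (c * x * c⁻¹) := by
        rw [h3]; group
      exact mul_left_cancel h5
    rw [h4]; exact h1
  refine rowM_aux (p := p) h2 f' hf' ?_ (fun x hx => hkc (hker x hx)) hij h2π hpπ d hW (T := T) ?_
  · rintro ⟨x, hx⟩
    obtain ⟨k, hk1⟩ := hk ⟨x, hker x hx⟩
    have h3 : x ^ 2 ^ k = 1 := congrArg Subtype.val hk1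
    exact ⟨k, Subtype.ext h3⟩
  · rintro _ ⟨x, hx, rfl⟩
    rw [← hP] at hx
    exact hc x hx

end GUrow

section Psp

variable {F : Type} [Field F] [Finite F] {k : ℕ}

/-- the projective symplectic group as a quotient of `GU` -/
theorem exists_proj (h2 : (2 : F) ≠ 0) {S : Type*} [Group S] (e : S ≃* Cfsg.PSp k F) :
    ∃ f : GU (Fin k) F →* S, Function.Surjective f ∧ IsPGroup 2 f.ker ∧ f.ker ≤ Subgroup.center (GU (Fin k) F) := by
  obtain ⟨a, b, hab⟩ := Cfsg.Agent.H158.PronM2.exists_sq_add_sq (-1 : F)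
  let f : GU (Fin k) F →* S := (e.symm : Cfsg.PSp k F →* S).comp
    ((QuotientGroup.mk' (Subgroup.center (Matrix.symplecticGroup (Fin k) F))).comp (toSp hab))
  have hf : Function.Surjective f :=
    e.symm.surjective.comp ((QuotientGroup.mk'_surjective _).comp (toSp_surjective hab h2))
  have hcen : ∀ x : GU (Fin k) F, f x = 1 → ∃ c : F, ((toSp hab x : Matrix.symplecticGroup (Fin k) F) :
      Matrix (Fin k ⊕ Fin k) (Fin k ⊕ Fin k) F) = c • 1 := by
    intro x hx
    have h1 : (QuotientGroup.mk' (Subgroup.center (Matrix.symplecticGroup (Fin k) F))) (toSp hab x) = 1 := by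
      apply e.symm.injective
      rw [map_one]
      exact hx
    have h3 : toSp hab x ∈ Subgroup.center (Matrix.symplecticGroup (Fin k) F) := (QuotientGroup.eq_one_iff _).1 h1
    exact (LieClassical.SympCenter.mem_center_iff k _).1 h3
  refine ⟨f, hf, ?_, ?_⟩
  · intro x
    refine ⟨1, ?_⟩
    apply Subtype.ext
    rw [pow_one, Subgroup.coe_pow, Subgroup.coe_one]
    obtain ⟨c, hc⟩ := hcen x x.2
    have h4 := SymplecticGroup.mem_iff.1 (toSp hab (x : GU (Fin k) F)).2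
    rw [hc, Matrix.smul_mul, Matrix.one_mul, Matrix.transpose_smul, Matrix.transpose_one, Matrix.mul_smul,
      Matrix.mul_one, smul_smul] at h4
    apply Subtype.ext
    apply Th_injective hab h2
    show Th a b ((x : GU (Fin k) F) ^ 2 : GU (Fin k) F).1 = Th a b 1
    have h5 : Th a b ((x : GU (Fin k) F) ^ 2 : GU (Fin k) F).1 = (c * c) • 1 := by
      have h6 : ((toSp hab ((x : GU (Fin k) F) ^ 2) : Matrix.symplecticGroup (Fin k) F) : Matrix _ _ F) =
          (toSp hab (x : GU (Fin k) F)).1 * (toSp hab (x : GU (Fin k) F)).1 := by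
        rw [pow_two, map_mul]
        rfl
      refine h6.trans ?_
      rw [hc, Matrix.smul_mul, Matrix.one_mul, smul_smul]
    rw [h5, Th_one]
    have h7 := congrArg (fun M => M * Matrix.J (Fin k) F) h4
    simp only [Matrix.smul_mul, Matrix.J_squared] at h7
    rw [smul_neg, neg_inj] at h7
    exact h7
  · intro x hx
    rw [Subgroup.mem_center_iff]
    intro y
    obtain ⟨c, hc⟩ := hcen x hx
    apply Subtype.ext
    apply Th_injective hab h2
    have h1 : ((toSp hab (y * x) : Matrix.symplecticGroup (Fin k) F) : Matrix _ _ F) =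
        (toSp hab (x * y) : Matrix.symplecticGroup (Fin k) F).1 := by
      rw [map_mul, map_mul]
      show (toSp hab y).1 * (toSp hab x).1 = (toSp hab x).1 * (toSp hab y).1
      rw [hc, Matrix.smul_mul, Matrix.mul_smul, Matrix.one_mul, Matrix.mul_one]
    exact h1

/-- **the row of `PSp_2k(q)`, `k ≥ 2`, `q` odd, `2 ∈ π`, `p ∉ π`** -/
theorem rowM_psp {S : Type u} [Group S] [Finite S] {p : ℕ} [hpp : Fact p.Prime] (h : Cfsg.IsPSpChar p S)
    {π : Set ℕ} (h2π : 2 ∈ π) (hpπ : p ∉ π) {H A : Subgroup S} (d : HA π 2 H A) : RowM π S := by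
  obtain ⟨F, _, _, _, m, hm, -, ⟨e⟩⟩ := h
  have h2 : (2 : F) ≠ 0 := by
    intro h
    have h1 : ((2 : ℕ) : F) = 0 := by exact_mod_cast h
    rw [CharP.cast_eq_zero_iff F p, Nat.prime_dvd_prime_iff_eq hpp.out Nat.prime_two] at h1
    exact hpπ (h1 ▸ h2π)
  obtain ⟨f, hf, hk, hkc⟩ := exists_proj h2 e
  have hij : (⟨0, by omega⟩ : Fin m) ≠ ⟨1, by omega⟩ := by
    intro h
    have := congrArg Fin.val h
    simp at this
  exact rowM_GU (p := p) h2 f hf hk hkc hij h2π hpπ d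

end Psp

end Cfsg.Agent.H573.RM
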